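import Mathlib.LinearAlgebra.LinearIndependent.Basic
import Mathlib.RingTheory.ZariskisMainTheorem
import Mathlib.RingTheory.Unramified.LocalStructure
import Mathlib.RingTheory.Etale.Basic

/-!
The number of geometric points in the fibres of a quasi-finite algebra of finite type is bounded.
-/

set_option autoImplicit false

namespace Groth.Agent.ResProp.K554.FibBound

open Algebra

/-- A finite algebra generated by `n` elements as a module has at most `n` points over a field. -/
theorem card_le_of_span {A S K : Type*} [CommRing A] [CommRing S] [Algebra A S] [Field K]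
    [Algebra A K] {ι : Type*} [Fintype ι] (t : ι → S) (ht : Submodule.span A (Set.range t) = ⊤)
    {J : Type*} [Fintype J] (s : J → (S →ₐ[A] K)) (hs : Function.Injective s) :
    Fintype.card J ≤ Fintype.card ι := by
  classical
  have hli := (linearIndependent_monoidHom S K).comp (fun j => (s j : S →* K)) (by
    intro i j hij
    apply hs
    ext x
    exact DFunLike.congr_fun hij x)
  -- restriction to `t` is injective on `A`-linear functions
  let ρ : (S →ₗ[A] K) →ₗ[K] (ι → K) :=
    { toFun := fun f i => f (t i)
      map_add' := fun _ _ => rfl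
      map_smul' := fun _ _ => rfl }
  have hρ : LinearMap.ker ρ = ⊥ := by
    rw [LinearMap.ker_eq_bot']
    intro f hf
    apply LinearMap.ext
    intro x
    have hx : x ∈ Submodule.span A (Set.range t) := ht ▸ Submodule.mem_top
    induction hx using Submodule.span_induction with
    | mem x hx => obtain ⟨i, rfl⟩ := hx; exact congrFun hf i
    | zero => simp
    | add x y _ _ hx hy => rw [map_add, hx, hy]; simp
    | smul a x _ hx => rw [map_smul, hx]; simp
  have hli2 : LinearIndependent K (fun j => ((s j).toLinearMap : S →ₗ[A] K)) := by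
    let e : (S →ₗ[A] K) →ₗ[K] (S → K) :=
      { toFun := fun f x => f x
        map_add' := fun _ _ => rfl
        map_smul' := fun _ _ => rfl }
    exact LinearIndependent.of_comp e hli
  have hli3 : LinearIndependent K (fun j => ρ ((s j).toLinearMap)) := hli2.map' ρ hρ
  simpa using hli3.fintype_card_le_finrank

/-- The number of points of the geometric fibres is bounded. -/
theorem exists_bound (A B : Type*) [CommRing A] [CommRing B] [Algebra A B] [Algebra.FiniteType A B]
    [Algebra.QuasiFinite A B] :
    ∃ d : ℕ, ∀ (K : Type*) [Field K] [Algebra A K] (J : Type) [Fintype J]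
      (s : J → (B →ₐ[A] K)), Function.Injective s → Fintype.card J ≤ d := by
  classical
  have key : ∀ p : PrimeSpectrum B, ∃ S' : Subalgebra A B, S'.toSubmodule.FG ∧ ∃ r : S',
      r.1 ∉ p.asIdeal ∧ Function.Bijective (Localization.awayMap S'.val.toRingHom r) := fun p =>
    (ZariskisMainProperty.of_finiteType (R := A) p.asIdeal
      ).exists_fg_and_exists_notMem_and_awayMap_bijective
  choose S hfg r hr hbij using key
  have hspan : Ideal.span (Set.range fun p => ((r p : S p) : B)) = ⊤ := by
    by_contra hne
    obtain ⟨m, hm, hle⟩ := Ideal.exists_le_maximal _ hne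
    exact hr ⟨m, hm.isPrime⟩ (hle (Ideal.subset_span ⟨⟨m, hm.isPrime⟩, rfl⟩))
  obtain ⟨T, hTr, hT⟩ : ∃ T : Finset B, (T : Set B) ⊆ Set.range (fun p => ((r p : S p) : B)) ∧
      Ideal.span (T : Set B) = ⊤ := (Ideal.span_eq_top_iff_finite _).mp hspan
  -- choose a prime for every element of `T`
  have hpr : ∀ x : T, ∃ p, ((r p : S p) : B) = x := fun x => hTr x.2
  choose p hp using hpr
  have hgen : ∀ x : T, ∃ (n : ℕ) (t : Fin n → S (p x)),
      Submodule.span A (Set.range t) = ⊤ := fun x => by
    have h1 : Module.Finite A (S (p x)) := ⟨(Submodule.fg_top _).mpr (hfg (p x))⟩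
    exact Module.Finite.exists_fin
  choose n t ht using hgen
  refine ⟨∑ x : T, n x, ?_⟩
  intro K _ _ J _ s hs
  -- every point does not vanish at some element of `T`
  have hex : ∀ j : J, ∃ x : T, s j (x : B) ≠ 0 := by
    intro j
    by_contra hcon
    push Not at hcon
    have h1 : Ideal.span (T : Set B) ≤ RingHom.ker (s j) := by
      rw [Ideal.span_le]
      intro x hx
      exact hcon ⟨x, hx⟩
    rw [hT] at h1
    have h2 : s j 1 = 0 := h1 Submodule.mem_top
    rw [map_one] at h2
    exact one_ne_zero h2
  choose c hc using hex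
  have hfib : ∀ x : T, Fintype.card {j : J // c j = x} ≤ n x := by
    intro x
    have h1 : Function.Injective (fun j : {j : J // c j = x} => (s j).comp (S (p x)).val) := by
      rintro ⟨j, hj⟩ ⟨j', hj'⟩ hjj
      apply Subtype.ext
      apply hs
      ext b
      have hjj' : ∀ y : S (p x), s j (y : B) = s j' (y : B) := fun y =>
        DFunLike.congr_fun hjj y
      -- `b` is a fraction
      obtain ⟨z, hz⟩ := (hbij (p x)).2 (algebraMap B _ b)
      obtain ⟨y, ⟨_, m, rfl⟩, rfl⟩ := IsLocalization.exists_mk'_eq
        (Submonoid.powers (r (p x))) z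
      have h3 : ∃ k : ℕ, ((r (p x) : B)) ^ k * (((r (p x) : B)) ^ m * b) =
          ((r (p x) : B)) ^ k * (y : B) := by
        rw [Localization.awayMap, IsLocalization.Away.map, IsLocalization.map_mk',
          IsLocalization.mk'_eq_iff_eq_mul, ← map_mul] at hz
        obtain ⟨⟨_, k, rfl⟩, hk⟩ := (IsLocalization.eq_iff_exists
          (Submonoid.powers ((S (p x)).val.toRingHom (r (p x)))) _).mp hz
        refine ⟨k, ?_⟩
        have hk' : ((r (p x) : B)) ^ k * (y : B) =
          ((r (p x) : B)) ^ k * (b * (((r (p x))^m : S (p x)) : B)) := hk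
        rw [hk', mul_comm b]
        simp
      obtain ⟨k, hk⟩ := h3
      have hrx : ((r (p x) : S (p x)) : B) = x := hp x
      have e1 := congrArg (s j) hk
      have e2 := congrArg (s j') hk
      simp only [map_mul, map_pow] at e1 e2
      have n1 : s j ((r (p x) : S (p x)) : B) ≠ 0 := by
        rw [hrx, ← hj]; exact hc j
      have n2 : s j' ((r (p x) : S (p x)) : B) ≠ 0 := by
        rw [hrx, ← hj']; exact hc j'
      have e3 : s j ((r (p x) : S (p x)) : B) ^ m * s j b = s j (y : B) :=
        mul_left_cancel₀ (pow_ne_zero k n1) e1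
      have e4 : s j' ((r (p x) : S (p x)) : B) ^ m * s j' b = s j' (y : B) :=
        mul_left_cancel₀ (pow_ne_zero k n2) e2
      rw [← hjj' y, ← hjj' (r (p x))] at e4
      rw [← e3] at e4
      exact (mul_left_cancel₀ (pow_ne_zero m n1) e4).symm
    have h2 := card_le_of_span (t x) (ht x) _ h1
    simpa using h2
  calc Fintype.card J = ∑ x : T, Fintype.card {j : J // c j = x} := by
        rw [← Fintype.card_sigma]
        exact Fintype.card_congr (Equiv.sigmaFiberEquiv c).symm
    _ ≤ ∑ x : T, n x := Finset.sum_le_sum fun x _ => hfib x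

/-- There is a bound `d` such that no nonzero `A`-algebra `C` carries more than `d` points of `B`
which are distinct at every maximal ideal of `C` (the scheme of pairwise distinct `n`-tuples of
points of `Spec B` over `Spec A` is empty for `n > d`). -/
theorem exists_bound_tuples (A B : Type*) [CommRing A] [CommRing B] [Algebra A B]
    [Algebra.FiniteType A B] [Algebra.QuasiFinite A B] :
    ∃ d : ℕ, ∀ (C : Type*) [CommRing C] [Algebra A C] (J : Type) [Fintype J]
      (s : J → (B →ₐ[A] C)), d < Fintype.card J →
      (∀ m : Ideal C, m.IsMaximal → ∀ i j, i ≠ j → ∃ b, s i b - s j b ∉ m) →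
      Subsingleton C := by
  obtain ⟨d, hd⟩ := exists_bound A B
  refine ⟨d, ?_⟩
  intro C _ _ J _ s hJ hs
  by_contra hC
  rw [not_subsingleton_iff_nontrivial] at hC
  obtain ⟨m, hm⟩ := Ideal.exists_maximal C
  let _ : Field (C ⧸ m) := Ideal.Quotient.field m
  have hle := hd (C ⧸ m) J (fun j => (Ideal.Quotient.mkₐ A m).comp (s j)) (by
    intro i j hij
    by_contra hne
    obtain ⟨b, hb⟩ := hs m hm i j hne
    apply hb
    have e : Ideal.Quotient.mk m (s i b) = Ideal.Quotient.mk m (s j b) := DFunLike.congr_fun hij b
    exact (Ideal.Quotient.mk_eq_mk_iff_sub_mem _ _).mp e)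
  omega

/-- The same for étale algebras. -/
theorem exists_bound_tuples_of_etale (A B : Type*) [CommRing A] [CommRing B] [Algebra A B]
    [Algebra.Etale A B] :
    ∃ d : ℕ, ∀ (C : Type*) [CommRing C] [Algebra A C] (J : Type) [Fintype J]
      (s : J → (B →ₐ[A] C)), d < Fintype.card J →
      (∀ m : Ideal C, m.IsMaximal → ∀ i j, i ≠ j → ∃ b, s i b - s j b ∉ m) →
      Subsingleton C := by
  have : Algebra.FiniteType A B := inferInstance
  exact exists_bound_tuples A B

end Groth.Agent.ResProp.K554.FibBound
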