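import Groth.Agent.ResProp.K56.DMDefs
import Groth.Agent.ResProp.K554.FibBound
import Mathlib.RingTheory.Unramified.Finite
import Mathlib.RingTheory.RingHom.Etale

/-!
# The idempotent of the diagonal and the bound of the fibres

`exists_diag` : for an étale chart the equalizers of arrows to the chart are cut out by idempotents.
`exists_bound` : there is `d` such that there are no `d + 1` pairwise distinct points.
-/

set_option autoImplicit false
set_option backward.isDefEq.respectTransparency false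
set_option backward.isDefEq.respectTransparency.types false
set_option linter.style.haveILetI false

open CategoryTheory Opposite

namespace Groth.Agent.ResProp.K554.DiagBnd

open K784.BC K784.PM K741.RP K56.DM

universe v₁ u₁ u

open scoped TensorProduct in
/-- the idempotent of a section of an étale algebra -/
theorem exists_section_idem {R P : Type u} [CommRing R] [CommRing P] [Algebra R P] [Algebra.Etale R P]
    (s : P →ₐ[R] R) :
    ∃ e : P, e * e = e ∧ s e = 1 ∧ ∀ b, e * b = e * algebraMap R P (s b) := by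
  let ψ : P ⊗[R] P →ₐ[R] P :=
    Algebra.TensorProduct.lift ((Algebra.ofId R P).comp s) (AlgHom.id R P) (fun _ _ => Commute.all _ _)
  have hψ : ∀ a b, ψ (a ⊗ₜ b) = algebraMap R P (s a) * b := fun a b =>
    Algebra.TensorProduct.lift_tmul ..
  let e₀ := Algebra.FormallyUnramified.elem R P
  have h1 : ∀ b, ψ e₀ * b = ψ e₀ * algebraMap R P (s b) := fun b => by
    have h := congrArg ψ (Algebra.FormallyUnramified.one_tmul_mul_elem (R := R) b)
    rw [map_mul, map_mul, hψ, hψ, map_one, map_one, one_mul, mul_one] at h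
    rw [mul_comm, h, mul_comm]
  have h2 : s (ψ e₀) = 1 := by
    have h3 : s.comp ψ = s.comp (Algebra.TensorProduct.lmul' R (S := P)) := by
      apply Algebra.TensorProduct.ext'
      intro a b
      change s (ψ (a ⊗ₜ b)) = s (Algebra.TensorProduct.lmul' R (a ⊗ₜ b))
      rw [hψ, Algebra.TensorProduct.lmul'_apply_tmul, map_mul, map_mul, AlgHom.commutes]
      rfl
    have h4 := DFunLike.congr_fun h3 e₀
    change s (ψ e₀) = s (Algebra.TensorProduct.lmul' R e₀) at h4
    rw [h4, Algebra.FormallyUnramified.lmul_elem, map_one]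
  refine ⟨ψ e₀, ?_, h2, h1⟩
  rw [h1, h2, map_one, mul_one]

variable {𝒞 : Type u₁} [Category.{v₁} 𝒞] {A : 𝒞ᵒᵖ ⥤ CommRingCat.{u}} {x₀ : 𝒞}

theorem comp_lift (D : PD A x₀) {y z w : 𝒞} (φ : w ⟶ y) (f : y ⟶ z) (g : y ⟶ x₀) :
    φ ≫ D.lift f g = D.lift (φ ≫ f) (φ ≫ g) :=
  D.ext (by rw [Category.assoc, D.lift_π, D.lift_π]) (by rw [Category.assoc, D.lift_b, D.lift_b])

/-- for an étale chart the equalizers are cut out by idempotents -/
theorem exists_diag (hG : Good A) (D : PD A x₀) (h : (rg A (D.π x₀)).Etale) : Nonempty (Diag A x₀) := by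
  letI : Algebra (A.obj (op x₀)) (A.obj (op (D.w x₀))) := (rg A (D.π x₀)).toAlgebra
  haveI : Algebra.Etale (A.obj (op x₀)) (A.obj (op (D.w x₀))) := h
  let s : A.obj (op (D.w x₀)) →ₐ[A.obj (op x₀)] A.obj (op x₀) :=
    { rg A (D.lift (𝟙 x₀) (𝟙 x₀)) with
      commutes' := fun r => by
        change rg A (D.lift (𝟙 x₀) (𝟙 x₀)) (rg A (D.π x₀) r) = r
        rw [← rg_comp_apply, D.lift_π, rg_id]
        rfl }
  have hs : ∀ b, s b = rg A (D.lift (𝟙 x₀) (𝟙 x₀)) b := fun _ => rfl
  obtain ⟨e₀, h1, h2, h3⟩ := exists_section_idem s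
  have hff : ∀ {z : 𝒞} (f : z ⟶ x₀), D.lift f f = f ≫ D.lift (𝟙 x₀) (𝟙 x₀) := fun f => by
    rw [comp_lift, Category.comp_id]
  refine ⟨⟨fun f g => rg A (D.lift f g) e₀, fun f g => ?_, fun φ f g => ?_, fun f => ?_, fun {z f g} hfg => ?_⟩⟩
  · rw [← map_mul, h1]
  · rw [← rg_comp_apply, comp_lift]
  · rw [hff, rg_comp_apply, ← hs, h2, map_one]
  · have h4 : rg A (D.lift f g) = rg A (D.lift f f) := by
      refine RingHom.ext fun b => ?_
      have h5 := congrArg (rg A (D.lift f g)) (h3 b)
      rw [map_mul, map_mul, hfg, one_mul, one_mul] at h5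
      rw [h5, hff, rg_comp_apply, ← hs]
      change rg A (D.lift f g) (rg A (D.π x₀) (s b)) = _
      rw [← rg_comp_apply, D.lift_π]
    have h6 : D.lift f g = D.lift f f := hG.ext (D.π x₀) _ _ (by rw [D.lift_π, D.lift_π]) h4
    have h7 := congrArg (· ≫ D.b x₀) h6
    simp only [D.lift_b] at h7
    exact h7.symm

/-- there is a bound for the number of pairwise distinct points -/
theorem exists_bound (hG : Good A) (D : PD A x₀) (E : Diag A x₀) (h : (rg A (D.π x₀)).Etale) :
    ∃ d : ℕ, ∀ {z : 𝒞} (f : Fin (d + 1) → (z ⟶ x₀)), E.dl f = 0 := by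
  letI : Algebra (A.obj (op x₀)) (A.obj (op (D.w x₀))) := (rg A (D.π x₀)).toAlgebra
  haveI : Algebra.Etale (A.obj (op x₀)) (A.obj (op (D.w x₀))) := h
  obtain ⟨d, hd⟩ := FibBound.exists_bound_tuples_of_etale.{u, u, u} (A.obj (op x₀)) (A.obj (op (D.w x₀)))
  refine ⟨d, fun {z} f => ?_⟩
  have hidem : E.dl f * E.dl f = E.dl f := by
    rw [Diag.dl, ← Finset.prod_mul_distrib]
    refine Finset.prod_congr rfl fun p _ => ?_
    split_ifs
    · rw [one_mul]
    · have := E.idem (f p.1) (f p.2)
      linear_combination this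
  let I : Ideal (A.obj (op z)) := Ideal.span {1 - E.dl f}
  letI : Algebra (A.obj (op x₀)) (A.obj (op z) ⧸ I) := ((Ideal.Quotient.mk I).comp (rg A (f 0))).toAlgebra
  let s : Fin (d + 1) → (A.obj (op (D.w x₀)) →ₐ[A.obj (op x₀)] (A.obj (op z) ⧸ I)) := fun j =>
    { (Ideal.Quotient.mk I).comp (rg A (D.lift (f 0) (f j))) with
      commutes' := fun r => by
        change Ideal.Quotient.mk I (rg A (D.lift (f 0) (f j)) (rg A (D.π x₀) r)) =
          Ideal.Quotient.mk I (rg A (f 0) r)
        rw [← rg_comp_apply, D.lift_π] }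
  have hsub : Subsingleton (A.obj (op z) ⧸ I) := by
    refine hd _ (Fin (d + 1)) s (by simp) fun m hm i j hij => ?_
    by_contra hcon
    push Not at hcon
    obtain ⟨z', t, ht, hker⟩ := hG.quot z (m.comap (Ideal.Quotient.mk I))
    have hmem : ∀ x, rg A t x = 0 ↔ Ideal.Quotient.mk I x ∈ m := fun x => by
      rw [← RingHom.mem_ker, hker, Ideal.mem_comap]
    have h1 : rg A (t ≫ D.lift (f 0) (f i)) = rg A (t ≫ D.lift (f 0) (f j)) := by
      refine RingHom.ext fun b => ?_
      rw [rg_comp_apply, rg_comp_apply, ← sub_eq_zero, ← map_sub, hmem, map_sub]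
      exact hcon b
    have h2 : t ≫ D.lift (f 0) (f i) = t ≫ D.lift (f 0) (f j) :=
      hG.ext (D.π x₀) _ _ (by rw [Category.assoc, Category.assoc, D.lift_π, D.lift_π]) h1
    have h3 : t ≫ f i = t ≫ f j := by
      have h4 := congrArg (· ≫ D.b x₀) h2
      simpa only [Category.assoc, D.lift_b] using h4
    have h5 : rg A t (E.dl f) = 0 := by
      rw [Diag.dl, map_prod]
      refine Finset.prod_eq_zero (Finset.mem_univ (i, j)) ?_
      rw [if_neg hij, map_sub, map_one, E.map, h3, E.refl, sub_self]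
    have h6 : rg A t (1 - E.dl f) = 0 := by
      have h8 : Ideal.Quotient.mk I (1 - E.dl f) = 0 :=
        Ideal.Quotient.eq_zero_iff_mem.2 (Ideal.mem_span_singleton_self _)
      rw [hmem, h8]
      exact m.zero_mem
    have h7 : rg A t 1 = 0 := by
      have : (1 : A.obj (op z)) = (1 - E.dl f) + E.dl f := by ring
      rw [this, map_add, h5, h6, add_zero]
    rw [hmem, map_one] at h7
    exact hm.ne_top (m.eq_top_iff_one.2 h7)
  have h1 : (1 : A.obj (op z)) ∈ I := by
    rw [← Ideal.Quotient.eq_zero_iff_mem]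
    exact Subsingleton.elim _ _
  obtain ⟨c, hc⟩ := Ideal.mem_span_singleton'.1 h1
  calc E.dl f = E.dl f * (c * (1 - E.dl f)) := by rw [hc, mul_one]
    _ = c * (E.dl f - E.dl f * E.dl f) := by ring
    _ = 0 := by rw [hidem, sub_self, mul_zero]

end Groth.Agent.ResProp.K554.DiagBnd
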