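import Mathlib.LinearAlgebra.LinearIndependent.Basic
import Mathlib.RingTheory.Invariant.Basic
import Mathlib.RingTheory.Ideal.GoingUp

/-!
An element of trace one for a free action of a finite group on an affine scheme
(Chase--Harrison--Rosenberg).
-/

set_option autoImplicit false

namespace Groth.Agent.ResProp.K554.TraceOne

variable {G B : Type*} [Group G] [Fintype G] [CommRing B] [MulSemiringAction G B]

/-- At every maximal ideal some trace is a unit (independence of characters). -/
theorem exists_trace_notMem
    (h : ∀ g : G, g ≠ 1 → ∀ m : Ideal B, m.IsMaximal → ∃ b : B, g • b - b ∉ m)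
    (m : Ideal B) (hm : m.IsMaximal) : ∃ b : B, ∑ g : G, g • b ∉ m := by
  classical
  let := Ideal.Quotient.field m
  let χ : G → (B →* (B ⧸ m)) := fun g =>
    ((Ideal.Quotient.mk m).comp (MulSemiringAction.toRingHom G B g)).toMonoidHom
  have hχ : Function.Injective χ := by
    intro g g' hgg
    by_contra hne
    have h1 : g'⁻¹ * g ≠ 1 := fun e => hne (by
      have := congrArg (g' * ·) e
      simpa [mul_assoc] using this)
    -- apply the hypothesis at the maximal ideal `g'⁻¹ m`
    let m' : Ideal B := m.comap (MulSemiringAction.toRingHom G B g')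
    have hm' : m'.IsMaximal := by
      have := hm
      exact Ideal.comap_isMaximal_of_surjective _ (fun b => ⟨g'⁻¹ • b, by simp⟩)
    obtain ⟨b, hb⟩ := h _ h1 m' hm'
    apply hb
    have e := DFunLike.congr_fun hgg b
    have e' : Ideal.Quotient.mk m (g • b) = Ideal.Quotient.mk m (g' • b) := e
    change g' • ((g'⁻¹ * g) • b - b) ∈ m
    rw [smul_sub, mul_smul, smul_inv_smul]
    exact (Ideal.Quotient.mk_eq_mk_iff_sub_mem _ _).mp e'
  by_contra hcon
  push Not at hcon
  have hli := (linearIndependent_monoidHom B (B ⧸ m)).comp χ hχ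
  rw [Fintype.linearIndependent_iff] at hli
  have := hli (fun _ => 1) (by
    ext b
    simp only [Function.comp_apply, one_smul, Finset.sum_apply, Pi.zero_apply]
    have hb := hcon b
    rw [← Ideal.Quotient.eq_zero_iff_mem, map_sum] at hb
    exact hb) 1
  exact one_ne_zero this

/-- A free action of a finite group on an affine scheme has an element of trace one. -/
theorem exists_trace_one
    (h : ∀ g : G, g ≠ 1 → ∀ m : Ideal B, m.IsMaximal → ∃ b : B, g • b - b ∉ m) :
    ∃ b : B, ∑ g : G, g • b = 1 := by
  classical
  -- the invariant subring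
  let A : Subring B := FixedPoints.subring B G
  have : SMulCommClass G A B := ⟨fun g a b => by
    change g • ((a : B) * b) = (a : B) * g • b
    rw [smul_mul']
    congr 1
    exact a.2 g⟩
  have : Algebra.IsInvariant A B G := ⟨fun b hb => ⟨⟨b, fun g => hb g⟩, rfl⟩⟩
  have : Algebra.IsIntegral A B := Algebra.IsInvariant.isIntegral A B G
  let tr : B →ₗ[A] A :=
    { toFun := fun b => ⟨∑ g : G, g • b, fun g' => by
        rw [Finset.smul_sum]
        simp_rw [← mul_smul]
        exact (Fintype.sum_equiv (Equiv.mulLeft g') (fun g => (g' * g) • b) (fun g => g • b)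
          (fun g => rfl))⟩
      map_add' := fun b c => Subtype.ext (by simp [smul_add, Finset.sum_add_distrib])
      map_smul' := fun a b => Subtype.ext (by
        change ∑ g : G, g • ((a : B) * b) = (a : B) * ∑ g : G, g • b
        rw [Finset.mul_sum]
        refine Finset.sum_congr rfl fun g _ => ?_
        rw [smul_mul']
        congr 1
        exact a.2 g) }
  let I : Ideal A := LinearMap.range tr
  have hI : I = ⊤ := by
    by_contra hI
    obtain ⟨n, hn, hIn⟩ := Ideal.exists_le_maximal I hI
    obtain ⟨q, hq, hqn⟩ := Ideal.exists_ideal_over_maximal_of_isIntegral (S := B) n (by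
      intro x hx
      have : (x : B) = 0 := by simpa using hx
      rw [show x = 0 from Subtype.ext this]
      exact n.zero_mem)
    obtain ⟨b, hb⟩ := exists_trace_notMem h q hq
    apply hb
    have h2 : tr b ∈ q.comap (algebraMap A B) := by
      rw [hqn]; exact hIn ⟨b, rfl⟩
    exact h2
  have h1 : (1 : A) ∈ I := hI ▸ Submodule.mem_top
  obtain ⟨b, hb⟩ := h1
  exact ⟨b, congrArg Subtype.val hb⟩

end Groth.Agent.ResProp.K554.TraceOne
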